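import Mathlib
import Cfsg.Agent.H93.CosetCox
import Cfsg.Agent.H93.CosetFast

/-!
A checked coset table (generated data).
-/

set_option autoImplicit false
set_option maxRecDepth 100000
set_option linter.all false
set_option Elab.async false

namespace H47.Fi24.D7

open H93.Coset

noncomputable section

noncomputable def tJ0 : ℕ := 0x36011c0034031a00000000000000000032011400300116002f0114002e0118002b03120029031200000000000000000000000000000000000000000026011600000000002301140022011600210118001d0312001f0114001b031a0000000000190312000000000019011c000000000017011c00000000000000000015011400000000001301180012011600110114000e0312000f011c000f011600000000000a031a000b01140000000000000000000000000000000000080116000601140005011600040118000401140002031200000000000000000000011c0000003c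

noncomputable def tJ1 : ℕ := 0x3601260035012400330212000000000000000000300120002d031e002c03220000000000000000000000000000000000290120002402120024031e00260120000000000020031e002201200020012400000000001c031e001e0124001c012600000000001802120018032200000000000000000014021200140322001401260000000000100322001201200010012400000000000f0126000f012000000000000c01240009031e00090212000802120000000000000000000000000000000000050120000303220003031e000000000000000000010124000001260000003e

noncomputable def tJ2 : ℕ := 0x36012e0035012c003402140032021e00000000002f012a00000000002e012a00000000002a021e002b021400000000002703280027021500000000002303280023012c00000000001f03280021012a001f012e00000000001e012c001d021400000000001b0214001b012a001902140015021e001702140017012a000000000011021e0013012a0011012e00000000000d021e000f012e000d012c00000000000c012c0000000000000000000a0214000000000006021e0006032800000000000403280004012a0000000000000000000202140001012c0000012e00000040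

noncomputable def tJ3 : ℕ := 0x3601340035013200340216003302200030022800000000002e0228002e013000000000002c0221000000000029021700000000002702160026013200000000002402200022013400000000002101300020022000000000001e0132001d0216001c0220001b0216001b01300019021600180220001702160017013000120228001402200013013000000000000f022800100220000f013400000000000e0216000c0132000a022800000000000a0217000000000008022100000000000501300000000000040130000000000003022000020216000101320000013400000042

noncomputable def tJ4 : ℕ := 0x360138003501360034021800310222000000000000000000000000000000000000000000000000002b02180029021800290230002702180027022a00260230002102220023022a0022023000000000001e0222001f022a001e013600000000001a0222001b021900000000000000000017013800170219000000000015022a0013013600000000001202300011022a00000000000f0138000f0230000e0218000c0136000b022a000b0218000a0218000702220005022200000000000000000000000000000000000000000000000000020218000101360000013800000044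

noncomputable def tJ5 : ℕ := 0x35033a0000000000000000003302240032022c00300232002f022c002e0236002d0224002c02240028021a0026021a000000000023021a00000000000000000000000000000000002202320000000000000000001f022c0000000000000000001c022400000000001b02360016021a001802240013021a000000000015022c0000000000000000001202320000000000000000000c033a000000000000000000000000000b022c00000000000000000009022400080224000802320006022c00050232000402360004022c000302240001021a000000000000000000000046

noncomputable def tJ6 : ℕ := 0x34021c003302260032022e00300234002f022e002e0238002d0226002c0226002b021c0029021c002902340027021c0027022e00000000002402260000000000000000002102380000000000000000001a023a00000000000000000000000000000000000000000000000000000000000000000000000000000000001302380000000000000000001002260000000000000000000e021c00000000000b022e000b021c000a021c0009022600080226000802340006022e00050234000402380004022e000302260002021c0000023a0000000000000000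

noncomputable def tJsel (g : ℕ) : ℕ := bif Nat.beq g 0 then tJ0 else bif Nat.beq g 1 then tJ1 else bif Nat.beq g 2 then tJ2 else bif Nat.beq g 3 then tJ3 else bif Nat.beq g 4 then tJ4 else bif Nat.beq g 5 then tJ5 else tJ6

/-- packed table -/
noncomputable def tJ (g c : ℕ) : ℕ := Nat.land (Nat.shiftRight (tJsel g) (32 * c)) 4294967295

end

end H47.Fi24.D7
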